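import Groth.Agent.Lib.ModM1.Push
import Groth.Agent.Lib.ModM1.LocFree
import Mathlib.AlgebraicGeometry.Morphisms.Finite
import Mathlib.AlgebraicGeometry.Morphisms.Flat
import Mathlib.RingTheory.RingHom.Flat
import Mathlib.AlgebraicGeometry.Morphisms.FinitePresentation
import Mathlib.RingTheory.Finiteness.ModuleFinitePresentation

/-!
# Finiteness of modules along finite morphisms
-/

universe u

set_option linter.style.haveILetI false

open CategoryTheory Limits AlgebraicGeometry

namespace Groth.Agent.PushFin12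

theorem finitePresentation_restrict {R S M : Type u} [CommRing R] [CommRing S] [Algebra R S]
    [AddCommGroup M] [Module R M] [Module S M] [IsScalarTower R S M] [Module.Finite R S]
    [Module.FinitePresentation R M] : Module.FinitePresentation S M := by
  haveI : Module.Finite S M := Module.Finite.of_restrictScalars_finite R S M
  obtain ⟨n, f, hf⟩ := Module.Finite.exists_fin' S M
  refine Module.finitePresentation_of_surjective f hf ?_
  have := Module.FinitePresentation.fg_ker (f.restrictScalars R) hf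
  rw [LinearMap.ker_restrictScalars] at this
  exact Submodule.FG.of_restrictScalars R this

variable {X Y : Scheme.{u}} (f : X ⟶ Y) (F : X.Modules)

theorem iSup_preimage_affine : ⨆ U : Y.affineOpens, f ⁻¹ᵁ U.1 = ⊤ := by
  rw [← Scheme.Hom.preimage_iSup, iSup_affineOpens_eq_top, Scheme.Hom.preimage_top]

theorem isFP_of_preimage [IsAffineHom f] (hF : Coh.IsQCoh F)
    (h : ∀ U : Y.Opens, IsAffineOpen U → Module.FinitePresentation Γ(X, f ⁻¹ᵁ U) Γ(F, f ⁻¹ᵁ U)) :
    CohB1.IsFP F := by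
  refine M1.isFP_of_openImmersion_cover (fun U : Y.affineOpens => (U.2.preimage f).fromSpec) (fun x => ?_)
    fun U => ?_
  · obtain ⟨U, hU, hx, -⟩ := exists_isAffineOpen_mem_and_subset (X := Y) (x := f x) (U := ⊤) trivial
    exact ⟨⟨U, hU⟩, by rw [IsAffineOpen.range_fromSpec]; exact hx⟩
  · haveI := h U.1 U.2
    exact (M1.isFP_iff_finitePresentation_spec _ (M1.isQCoh_fromSpec hF (U.2.preimage f))).mpr
      (M1.finitePresentation_of_linearEquiv (M1.affineSecEquiv F (U.2.preimage f)).symm)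

theorem isFT_of_preimage [IsAffineHom f] (hF : Coh.IsQCoh F)
    (h : ∀ U : Y.Opens, IsAffineOpen U → Module.Finite Γ(X, f ⁻¹ᵁ U) Γ(F, f ⁻¹ᵁ U)) :
    CohB1.IsFT F := by
  refine M1.isFT_of_openImmersion_cover (fun U : Y.affineOpens => (U.2.preimage f).fromSpec) (fun x => ?_)
    fun U => ?_
  · obtain ⟨U, hU, hx, -⟩ := exists_isAffineOpen_mem_and_subset (X := Y) (x := f x) (U := ⊤) trivial
    exact ⟨⟨U, hU⟩, by rw [IsAffineOpen.range_fromSpec]; exact hx⟩
  · exact (M1.isFT_iff_finite_spec _ (M1.isQCoh_fromSpec hF (U.2.preimage f))).mpr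
      (haveI := h U.1 U.2; Module.Finite.equiv (M1.affineSecEquiv F (U.2.preimage f)).symm)

theorem isQCoh_pushforward [IsAffineHom f] (hF : Coh.IsQCoh F) :
    Coh.IsQCoh ((Scheme.Modules.pushforward f).obj F) :=
  M1.isQCoh_push f hF

theorem isFP_iff [IsFinite f] [LocallyOfFinitePresentation f] (hF : Coh.IsQCoh F) :
    CohB1.IsFP F ↔ CohB1.IsFP ((Scheme.Modules.pushforward f).obj F) := by
  constructor
  · intro h
    refine M1.isFP_of_finitePresentation_sections (isQCoh_pushforward f F hF) fun U hU => ?_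
    letI := (f.app U).hom.toAlgebra
    letI : Module Γ(Y, U) Γ(F, f ⁻¹ᵁ U) := Module.compHom _ (f.app U).hom
    haveI : IsScalarTower Γ(Y, U) Γ(X, f ⁻¹ᵁ U) Γ(F, f ⁻¹ᵁ U) :=
      IsScalarTower.of_algebraMap_smul fun _ _ => rfl
    haveI : Module.Finite Γ(Y, U) Γ(X, f ⁻¹ᵁ U) := IsFinite.finite_app f U hU
    haveI : Algebra.FinitePresentation Γ(Y, U) Γ(X, f ⁻¹ᵁ U) := by
      have := f.finitePresentation_appLE hU (hU.preimage f) le_rfl
      rw [← Scheme.Hom.app_eq_appLE] at this
      exact RingHom.finitePresentation_algebraMap.1 this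
    haveI : Module.FinitePresentation Γ(Y, U) Γ(X, f ⁻¹ᵁ U) :=
      Module.FinitePresentation.of_finite_of_finitePresentation _ _
    haveI := M1.finitePresentation_sections h (hU.preimage f)
    exact Module.FinitePresentation.trans Γ(Y, U) Γ(F, f ⁻¹ᵁ U) Γ(X, f ⁻¹ᵁ U)
  · intro h
    refine isFP_of_preimage f F hF fun U hU => ?_
    letI := (f.app U).hom.toAlgebra
    letI : Module Γ(Y, U) Γ(F, f ⁻¹ᵁ U) := Module.compHom _ (f.app U).hom
    haveI : IsScalarTower Γ(Y, U) Γ(X, f ⁻¹ᵁ U) Γ(F, f ⁻¹ᵁ U) :=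
      IsScalarTower.of_algebraMap_smul fun _ _ => rfl
    haveI : Module.Finite Γ(Y, U) Γ(X, f ⁻¹ᵁ U) := IsFinite.finite_app f U hU
    haveI : Module.FinitePresentation Γ(Y, U) Γ(F, f ⁻¹ᵁ U) := M1.finitePresentation_sections h hU
    exact finitePresentation_restrict (R := Γ(Y, U)) (M := Γ(F, f ⁻¹ᵁ U))

theorem isFT_iff [IsFinite f] (hF : Coh.IsQCoh F) :
    CohB1.IsFT F ↔ CohB1.IsFT ((Scheme.Modules.pushforward f).obj F) := by
  constructor
  · intro h
    refine M1.isFT_of_finite_sections (isQCoh_pushforward f F hF) fun U hU => ?_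
    letI := (f.app U).hom.toAlgebra
    letI : Module Γ(Y, U) Γ(F, f ⁻¹ᵁ U) := Module.compHom _ (f.app U).hom
    haveI : IsScalarTower Γ(Y, U) Γ(X, f ⁻¹ᵁ U) Γ(F, f ⁻¹ᵁ U) :=
      IsScalarTower.of_algebraMap_smul fun _ _ => rfl
    haveI : Module.Finite Γ(Y, U) Γ(X, f ⁻¹ᵁ U) := IsFinite.finite_app f U hU
    haveI := M1.finite_sections hF h (hU.preimage f)
    exact (Module.Finite.trans (R := Γ(Y, U)) Γ(X, f ⁻¹ᵁ U) Γ(F, f ⁻¹ᵁ U) :)
  · intro h
    refine isFT_of_preimage f F hF fun U hU => ?_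
    letI := (f.app U).hom.toAlgebra
    letI : Module Γ(Y, U) Γ(F, f ⁻¹ᵁ U) := Module.compHom _ (f.app U).hom
    haveI : IsScalarTower Γ(Y, U) Γ(X, f ⁻¹ᵁ U) Γ(F, f ⁻¹ᵁ U) :=
      IsScalarTower.of_algebraMap_smul fun _ _ => rfl
    haveI : Module.Finite Γ(Y, U) Γ(F, f ⁻¹ᵁ U) :=
      M1.finite_sections (isQCoh_pushforward f F hF) h hU
    exact Module.Finite.of_restrictScalars_finite Γ(Y, U) _ _

theorem flat_sections_of_flat_stalks {M : Y.Modules} (hM : Coh.IsQCoh M) {U : Y.Opens}
    (hU : IsAffineOpen U)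
    (h : ∀ y : Y, Module.Flat (Y.presheaf.stalk y) (M.presheaf.stalk y)) :
    Module.Flat Γ(Y, U) Γ(M, U) := by
  haveI := hM
  let pt : ∀ P : Ideal Γ(Y, U), P.IsMaximal → U := fun P hP =>
    ⟨hU.fromSpec ⟨P, hP.isPrime⟩, hU.range_fromSpec.le ⟨_, rfl⟩⟩
  have hpt : ∀ (P : Ideal Γ(Y, U)) (hP : P.IsMaximal), (hU.primeIdealOf (pt P hP)).asIdeal = P := fun P hP =>
    congrArg PrimeSpectrum.asIdeal (hU.fromSpec.isOpenEmbedding.injective (hU.fromSpec_primeIdealOf _)
      : hU.primeIdealOf (pt P hP) = (⟨P, hP.isPrime⟩ : PrimeSpectrum Γ(Y, U)))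
  letI (y : U) : Module Γ(Y, U) (M.presheaf.stalk y.1) := M1.stalkModule M y.2
  have hloc : ∀ (P : Ideal Γ(Y, U)) [hP : P.IsMaximal],
      IsLocalizedModule.AtPrime P (M1.germₗ M (pt P hP).2) := by
    intro P hP
    have := M1.isLocalizedModule_germ M hU (pt P hP).2
    simp only [show (⟨(pt P hP).1, (pt P hP).2⟩ : U) = pt P hP from rfl, hpt] at this
    exact this
  refine @Module.flat_of_isLocalized_maximal Γ(Y, U) Γ(Y, U) _ _ _ Γ(M, U) _ _ _ _
    (fun P hP => M.presheaf.stalk (pt P hP).1) _ _ _ _ (fun P hP => M1.germₗ M (pt P hP).2) hloc ?_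
  intro P hP
  let y := pt P hP
  letI := TopCat.Presheaf.algebra_section_stalk Y.presheaf y
  haveI := hU.isLocalization_stalk y
  haveI : IsScalarTower Γ(Y, U) (Y.presheaf.stalk y.1) (M.presheaf.stalk y.1) :=
    IsScalarTower.of_algebraMap_smul fun _ _ => rfl
  haveI : Module.Flat Γ(Y, U) (Y.presheaf.stalk y.1) :=
    IsLocalization.flat _ (hU.primeIdealOf y).asIdeal.primeCompl
  haveI := h y.1
  exact Module.Flat.trans Γ(Y, U) (Y.presheaf.stalk y.1) (M.presheaf.stalk y.1)

theorem flat_stalk_of_flat_sections {M : Y.Modules} (hM : Coh.IsQCoh M) {U : Y.Opens}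
    (hU : IsAffineOpen U) [Module.Flat Γ(Y, U) Γ(M, U)] {y : Y} (hy : y ∈ U) :
    Module.Flat (Y.presheaf.stalk y) (M.presheaf.stalk y) := by
  haveI := hM
  letI := M1.stalkModule M hy
  haveI := M1.isLocalizedModule_germ M hU hy
  letI := TopCat.Presheaf.algebra_section_stalk Y.presheaf (⟨y, hy⟩ : U)
  haveI := hU.isLocalization_stalk ⟨y, hy⟩
  haveI : IsScalarTower Γ(Y, U) (Y.presheaf.stalk y) (M.presheaf.stalk y) :=
    IsScalarTower.of_algebraMap_smul fun _ _ => rfl
  exact Module.Flat.of_isLocalizedModule _ (hU.primeIdealOf ⟨y, hy⟩).asIdeal.primeCompl (M1.germₗ M hy)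

/-- Finite locally free morphisms = affine with finite locally free direct image of the structure sheaf. -/
theorem finLocFree_iff :
    (IsAffineHom f ∧ FlatMod.IsFinLocFree ((Scheme.Modules.pushforward f).obj (Coh.structureModule X))) ↔
      IsFinite f ∧ Flat f ∧ LocallyOfFinitePresentation f := by
  have hO : Coh.IsQCoh (Coh.structureModule X) := M1.isQCoh_structureModule X
  constructor
  · rintro ⟨ha, h⟩
    haveI := ha
    obtain ⟨hFP, hfree⟩ := (M1.isFinLocFree_iff _).1 h
    have key : ∀ U : Y.Opens, IsAffineOpen U →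
        (f.app U).hom.Finite ∧ (f.app U).hom.Flat ∧ (f.app U).hom.FinitePresentation := by
      intro U hU
      letI := (f.app U).hom.toAlgebra
      have h1 : Module.FinitePresentation Γ(Y, U) Γ(X, f ⁻¹ᵁ U) := M1.finitePresentation_sections hFP hU
      have h2 : Module.Flat Γ(Y, U) Γ(X, f ⁻¹ᵁ U) :=
        flat_sections_of_flat_stalks (M1.isFP_isQCoh hFP) hU fun y => haveI := hfree y; inferInstance
      exact ⟨RingHom.finite_algebraMap.2 inferInstance, RingHom.flat_algebraMap_iff.2 h2,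
        RingHom.finitePresentation_algebraMap.2 (Algebra.FinitePresentation.of_finitePresentation _ _)⟩
    have hle : ∀ (U : Y.Opens) (V : X.Opens) (e : V ≤ f ⁻¹ᵁ U),
        f.appLE U V e = f.app U ≫ X.presheaf.map (homOfLE e).op := fun _ _ _ => rfl
    refine ⟨⟨fun U hU => (key U hU).1⟩, ?_, ?_⟩
    · refine (HasRingHomProperty.iff_appLE (P := @Flat)).2 fun U V e => ?_
      rw [hle, CommRingCat.hom_comp]
      refine RingHom.Flat.comp (key U.1 U.2).2.1 ?_
      have := Flat.flat_appLE (𝟙 X) (U.2.preimage f) V.2 e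
      exact this
    · refine (HasRingHomProperty.iff_appLE (P := @LocallyOfFinitePresentation)).2 fun U V e => ?_
      rw [hle, CommRingCat.hom_comp]
      refine RingHom.FinitePresentation.comp ?_ (key U.1 U.2).2.2
      have := (𝟙 X : X ⟶ X).finitePresentation_appLE (U.2.preimage f) V.2 e
      exact this
  · rintro ⟨hfin, hfl, hfp⟩
    refine ⟨inferInstance, (M1.isFinLocFree_iff _).2 ?_⟩
    have hFP : CohB1.IsFP ((Scheme.Modules.pushforward f).obj (Coh.structureModule X)) := by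
      refine (isFP_iff f _ hO).1 (M1.isFP_of_finitePresentation_sections hO fun U _ => ?_)
      exact (Module.finitePresentation_of_projective Γ(X, U) Γ(X, U) : _)
    refine ⟨hFP, fun y => ?_⟩
    obtain ⟨U, hU, hy, -⟩ := exists_isAffineOpen_mem_and_subset (X := Y) (x := y) (U := ⊤) trivial
    have h2 : (f.app U).hom.Flat := by
      have := Flat.flat_appLE f hU (hU.preimage f) le_rfl
      rwa [← Scheme.Hom.app_eq_appLE] at this
    haveI : Module.Flat Γ(Y, U) Γ((Scheme.Modules.pushforward f).obj (Coh.structureModule X), U) := h2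
    exact M1.free_stalk_of_flat hFP y (flat_stalk_of_flat_sections (M1.isFP_isQCoh hFP) hU hy)

end Groth.Agent.PushFin12
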